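/-
The inertia operators on the rational vector space of finite groups: `inertiaR r` is the
`r`-th falling factorial of the inertia operator.
-/
import Groth.Prelude.Def_W4c5stacksedinertiaGpd
import Mathlib.GroupTheory.Coset.Card
import Mathlib.LinearAlgebra.Eigenspace.Basic
import Mathlib.Algebra.BigOperators.Fin

open scoped Classical
open W4c5stacksedinertia

universe u v

namespace Groth.Agent.InertiaK.Basic

variable {G : Type u} [Group G] [Finite G] {H : Type v} [Group H] [Finite H]

noncomputable def equivOf (G : Type u) [Group G] [Finite G] : (FinGrp.of G).carrier ≃* G :=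
  (Nat.equivFinOfCardPos (α := G) Nat.card_pos.ne').symm.mulEquiv

theorem idx_congr (e : G ≃* H) : Idx.of G = Idx.of H :=
  Quotient.sound ⟨(equivOf G).trans (e.trans (equivOf H).symm)⟩

theorem cl_congr (e : G ≃* H) : cl G = cl H := by rw [cl, cl, idx_congr e]

theorem rep_equiv (G : Type u) [Group G] [Finite G] : Nonempty ((Idx.of G).rep ≃* G) := by
  obtain ⟨e⟩ := Quotient.exact (Quotient.out_eq (s := FinGrp.setoid) (Idx.of G))
  exact ⟨MulEquiv.trans e (equivOf G)⟩

theorem of_rep (i : Idx) : Idx.of i.rep = i := by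
  refine (Quotient.sound ?_).trans (Quotient.out_eq (s := FinGrp.setoid) i)
  exact ⟨equivOf i.rep⟩

theorem card_of (G : Type u) [Group G] [Finite G] : (Idx.of G).card = Nat.card G :=
  let ⟨e⟩ := rep_equiv G
  Nat.card_congr e.toEquiv

theorem centerCard_of (G : Type u) [Group G] [Finite G] :
    (Idx.of G).centerCard = Nat.card (Subgroup.center G) :=
  let ⟨e⟩ := rep_equiv G
  Nat.card_congr (Subgroup.centerCongr e).toEquiv

noncomputable instance (r : ℕ) : Fintype (CommTuple G r) :=
  have : Finite (CommTuple G r) := Subtype.finite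
  Fintype.ofFinite _

noncomputable instance (r : ℕ) : Fintype (CommTuple.Orbit G r) :=
  have : Finite (CommTuple G r) := Subtype.finite
  have : Finite (CommTuple.Orbit G r) := Quotient.finite _
  Fintype.ofFinite _

/-- the common centralizer -/
abbrev C {r : ℕ} (s : CommTuple G r) : Subgroup G := Subgroup.centralizer (Set.range s.1)

omit [Finite G] [Finite H] in
/-- centralizers are transported by isomorphisms -/
def centralizerEquiv (e : G ≃* H) (S : Set G) (T : Set H) (h : e '' S = T) :
    Subgroup.centralizer S ≃* Subgroup.centralizer T where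
  toFun x := ⟨e x, by
    subst h
    rintro _ ⟨y, hy, rfl⟩
    rw [← map_mul, ← map_mul, x.2 y hy]⟩
  invFun x := ⟨e.symm x, fun y hy => e.injective (by
    subst h
    rw [map_mul, map_mul, e.apply_symm_apply]
    exact x.2 _ ⟨y, hy, rfl⟩)⟩
  left_inv x := Subtype.ext (e.symm_apply_apply _)
  right_inv x := Subtype.ext (e.apply_symm_apply _)
  map_mul' x y := Subtype.ext (map_mul e _ _)

/-- the `r`-th inertia class, as a sum over tuples -/
noncomputable def W (r : ℕ) (G : Type u) [Group G] [Finite G] : K :=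
  (Nat.card G : ℚ)⁻¹ • ∑ s : CommTuple G r, (Nat.card (C s) : ℚ) • cl (C s)

noncomputable def conjTuple {r : ℕ} (g : G) (s : CommTuple G r) : CommTuple G r :=
  ⟨fun i => g * s.1 i * g⁻¹, fun i j h => s.2.1 (by simpa using h),
    fun i j => (s.2.2 i j).map (MulAut.conj g).toMonoidHom⟩

theorem cl_C_of_rel {r : ℕ} {s t : CommTuple G r} (h : (CommTuple.setoid G r).r s t) :
    Nat.card (C s) = Nat.card (C t) ∧ cl (C s) = cl (C t) := by
  obtain ⟨g, hg⟩ := h
  have e : C s ≃* C t := centralizerEquiv (MulAut.conj g) _ _ (by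
    rw [← Set.range_comp]
    exact congrArg Set.range (funext hg))
  exact ⟨Nat.card_congr e.toEquiv, cl_congr e⟩

theorem card_fibre {r : ℕ} (s : CommTuple G r) :
    Nat.card {t : CommTuple G r // (CommTuple.setoid G r).r s t} * Nat.card (C s) = Nat.card G := by
  let φ : G ⧸ C s → {t : CommTuple G r // (CommTuple.setoid G r).r s t} :=
    Quotient.lift (fun g => ⟨conjTuple g s, g, fun i => rfl⟩) (fun g g' h => by
      have h' : g⁻¹ * g' ∈ C s := QuotientGroup.leftRel_apply.1 h
      refine Subtype.ext (Subtype.ext (funext fun i => ?_))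
      have hc := h' (s.1 i) ⟨i, rfl⟩
      show g * s.1 i * g⁻¹ = g' * s.1 i * g'⁻¹
      calc g * s.1 i * g⁻¹ = g * (s.1 i * (g⁻¹ * g')) * g'⁻¹ := by group
        _ = g' * s.1 i * g'⁻¹ := by rw [hc]; group)
  have hφ : Function.Bijective φ := by
    constructor
    · rintro ⟨g⟩ ⟨g'⟩ h
      refine Quotient.sound (QuotientGroup.leftRel_apply.2 ?_)
      rintro _ ⟨i, rfl⟩
      have h' : g * s.1 i * g⁻¹ = g' * s.1 i * g'⁻¹ := congrFun (congrArg (fun x => x.1.1) h) i
      calc s.1 i * (g⁻¹ * g') = g⁻¹ * (g * s.1 i * g⁻¹) * g' := by group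
        _ = (g⁻¹ * g') * s.1 i := by rw [h']; group
    · rintro ⟨t, g, hg⟩
      exact ⟨Quotient.mk _ g, Subtype.ext (Subtype.ext (funext hg))⟩
  rw [← Nat.card_congr (Equiv.ofBijective φ hφ)]
  exact (Subgroup.card_eq_card_quotient_mul_card_subgroup _).symm

theorem inertiaROf_eq (r : ℕ) : inertiaROf r G = W r G := by
  let q : CommTuple G r → CommTuple.Orbit G r := fun t => Quotient.mk (CommTuple.setoid G r) t
  rw [inertiaROf, finsum_eq_sum_of_fintype, W, ← Finset.sum_fiberwise Finset.univ q, Finset.smul_sum]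
  refine Finset.sum_congr rfl (fun O _ => ?_)
  let s : CommTuple G r := Quotient.out (s := CommTuple.setoid G r) O
  have hO : q s = O := Quotient.out_eq (s := CommTuple.setoid G r) O
  have hconst : ∀ t ∈ Finset.univ.filter (fun t => q t = O),
      (Nat.card (C t) : ℚ) • cl (C t) = (Nat.card (C s) : ℚ) • cl (C s) := by
    intro t ht
    obtain ⟨h1, h2⟩ := cl_C_of_rel (Quotient.exact ((Finset.mem_filter.1 ht).2.trans hO.symm))
    rw [h1, h2]
  have hcard : (Finset.univ.filter (fun t => q t = O)).card =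
      Nat.card {t : CommTuple G r // (CommTuple.setoid G r).r s t} := by
    rw [Nat.card_eq_fintype_card, Fintype.card_subtype]
    refine congrArg Finset.card (Finset.filter_congr fun t _ => ?_)
    rw [← hO]
    exact ⟨fun h => Quotient.exact h.symm, fun h => (Quotient.sound h).symm⟩
  rw [Finset.sum_congr rfl hconst, Finset.sum_const, ← Nat.cast_smul_eq_nsmul ℚ, smul_smul, smul_smul,
    hcard, mul_assoc, ← Nat.cast_mul, card_fibre, inv_mul_cancel₀ (Nat.cast_ne_zero.2 Nat.card_pos.ne'),
    one_smul]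

noncomputable def tupleEquiv (e : G ≃* H) (r : ℕ) : CommTuple G r ≃ CommTuple H r where
  toFun s := ⟨e ∘ s.1, e.injective.comp s.2.1, fun i j => (s.2.2 i j).map e.toMonoidHom⟩
  invFun s := ⟨e.symm ∘ s.1, e.symm.injective.comp s.2.1, fun i j => (s.2.2 i j).map e.symm.toMonoidHom⟩
  left_inv s := Subtype.ext (funext fun _ => e.symm_apply_apply _)
  right_inv s := Subtype.ext (funext fun _ => e.apply_symm_apply _)

theorem W_congr (e : G ≃* H) (r : ℕ) : W r G = W r H := by
  rw [W, W, Nat.card_congr e.toEquiv]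
  refine congrArg _ (Fintype.sum_equiv (tupleEquiv e r) _ _ (fun s => ?_))
  have e' : C s ≃* C (tupleEquiv e r s) := centralizerEquiv e _ _ (Set.range_comp _ _).symm
  rw [Nat.card_congr e'.toEquiv, cl_congr e']

theorem inertiaR_cl (r : ℕ) (G : Type u) [Group G] [Finite G] : inertiaR r (cl G) = W r G := by
  obtain ⟨e⟩ := rep_equiv G
  rw [inertiaR, cl, Finsupp.linearCombination_single, one_smul, inertiaROf_eq, W_congr e]

theorem cl_rep (i : Idx) : cl i.rep = Finsupp.single i (1 : ℚ) := by rw [cl, of_rep]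

theorem ext_cl {M : Type*} [AddCommMonoid M] [Module ℚ M] (f g : K →ₗ[ℚ] M)
    (h : ∀ (G : Type) [Group G] [Finite G], f (cl G) = g (cl G)) : f = g :=
  Finsupp.lhom_ext' fun i => LinearMap.ext_ring (by simpa [cl_rep] using h i.rep)

theorem inertiaR_zero : inertiaR 0 = LinearMap.id := by
  refine ext_cl _ _ fun G _ _ => ?_
  let s₀ : CommTuple G 0 := ⟨Fin.elim0, fun i => i.elim0, fun i => i.elim0⟩
  have : Unique (CommTuple G 0) := ⟨⟨s₀⟩, fun s => Subtype.ext (funext fun i => i.elim0)⟩
  have hC : C s₀ = ⊤ := by rw [eq_top_iff]; rintro x - _ ⟨i, -⟩; exact i.elim0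
  have e : C s₀ ≃* G := (MulEquiv.subgroupCongr hC).trans Subgroup.topEquiv
  rw [inertiaR_cl, W, Fintype.sum_unique, LinearMap.id_apply, show default = s₀ from Subsingleton.elim _ _,
    Nat.card_congr e.toEquiv, cl_congr e, smul_smul,
    inv_mul_cancel₀ (Nat.cast_ne_zero.2 Nat.card_pos.ne'), one_smul]

/-- `inertia` of a group as a sum over elements -/
theorem inertia_cl (G : Type u) [Group G] [Finite G] [Fintype G] :
    inertia (cl G) = (Nat.card G : ℚ)⁻¹ •
      ∑ x : G, (Nat.card (Subgroup.centralizer {x}) : ℚ) • cl (Subgroup.centralizer ({x} : Set G)) := by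
  rw [inertiaR_cl, W]
  let e : CommTuple G 1 ≃ G :=
    { toFun := fun s => s.1 0
      invFun := fun x => ⟨fun _ => x, fun i j _ => Subsingleton.elim i j, fun _ _ => Commute.refl x⟩
      left_inv := fun s => Subtype.ext (funext fun i => by rw [Subsingleton.elim i 0])
      right_inv := fun x => rfl }
  refine congrArg _ (Fintype.sum_equiv e _ _ (fun s => ?_))
  have e' : C s ≃* Subgroup.centralizer ({s.1 0} : Set G) :=
    MulEquiv.subgroupCongr (by rw [C, Set.range_unique]; rfl)
  rw [Nat.card_congr e'.toEquiv, cl_congr e']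
  rfl

omit [Finite G] in
/-- iterated centralizers -/
def nestedEquiv (S : Set G) (x : Subgroup.centralizer S) :
    Subgroup.centralizer ({x} : Set (Subgroup.centralizer S)) ≃*
      Subgroup.centralizer (insert (x : G) S) where
  toFun y := ⟨y.1.1, by
    rintro z (rfl | hz)
    · exact congrArg Subtype.val (y.2 x rfl)
    · exact y.1.2 z hz⟩
  invFun y := ⟨⟨y.1, fun z hz => y.2 z (Or.inr hz)⟩, fun z hz => by
    obtain rfl : z = x := hz
    exact Subtype.ext (y.2 _ (Or.inl rfl))⟩
  left_inv y := rfl
  right_inv y := rfl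
  map_mul' y z := rfl

theorem inertia_inertiaR (r : ℕ) (v : K) :
    inertia (inertiaR r v) = inertiaR (r + 1) v + (r : ℚ) • inertiaR r v := by
  revert v
  suffices h : inertia.comp (inertiaR r) = inertiaR (r + 1) + (r : ℚ) • inertiaR r from
    fun v => LinearMap.congr_fun h v
  refine ext_cl _ _ fun G _ _ => ?_
  rw [LinearMap.comp_apply, LinearMap.add_apply, LinearMap.smul_apply, inertiaR_cl r, inertiaR_cl (r + 1),
    W, W, map_smul, map_sum, smul_comm (r : ℚ), ← smul_add, Finset.smul_sum (r := (r : ℚ))]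
  refine congrArg _ ?_
  let F : (p : Σ s : CommTuple G r, C s) → K := fun p =>
    (Nat.card (Subgroup.centralizer (insert (p.2 : G) (Set.range p.1.1))) : ℚ) •
      cl (Subgroup.centralizer (insert (p.2 : G) (Set.range p.1.1)))
  have : ∀ s : CommTuple G r, Fintype (C s) := fun s => Fintype.ofFinite _
  have h1 : ∀ s : CommTuple G r, inertia ((Nat.card (C s) : ℚ) • cl (C s)) = ∑ x : C s, F ⟨s, x⟩ := by
    intro s
    rw [map_smul, inertia_cl, smul_smul, mul_inv_cancel₀ (Nat.cast_ne_zero.2 Nat.card_pos.ne'), one_smul]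
    refine Finset.sum_congr rfl (fun x _ => ?_)
    rw [Nat.card_congr (nestedEquiv _ x).toEquiv, cl_congr (nestedEquiv _ x)]
  rw [Finset.sum_congr rfl (fun s _ => h1 s), ← Fintype.sum_sigma',
    ← Finset.sum_filter_add_sum_filter_not Finset.univ
      (fun p : Σ s : CommTuple G r, C s => (p.2 : G) ∈ Set.range p.1.1)]
  rw [add_comm]
  refine congrArg₂ (· + ·) ?_ ?_
  · rw [Finset.sum_subtype (Finset.univ.filter fun p : Σ s : CommTuple G r, C s =>
      ¬(p.2 : G) ∈ Set.range p.1.1) (p := fun p => ¬(p.2 : G) ∈ Set.range p.1.1) (by simp)]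
    let e : {p : Σ s : CommTuple G r, C s // ¬(p.2 : G) ∈ Set.range p.1.1} ≃ CommTuple G (r + 1) :=
      { toFun := fun p => ⟨Fin.cons (p.1.2 : G) p.1.1.1,
          Fin.cons_injective_iff.2 ⟨p.2, p.1.1.2.1⟩, fun i j => by
            induction i using Fin.cases with
            | zero => induction j using Fin.cases with
              | zero => exact Commute.refl _
              | succ j => simpa using (Commute.symm (p.1.2.2 _ ⟨j, rfl⟩) : Commute (p.1.2 : G) (p.1.1.1 j))
            | succ i => induction j using Fin.cases with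
              | zero =>
                simp only [Fin.cons_succ, Fin.cons_zero]
                exact p.1.2.2 _ ⟨i, rfl⟩
              | succ j => simpa using p.1.1.2.2 i j⟩
        invFun := fun t => ⟨⟨⟨Fin.tail t.1, t.2.1.comp (Fin.succ_injective _), fun i j => t.2.2 _ _⟩,
            ⟨t.1 0, by rintro _ ⟨i, rfl⟩; exact t.2.2 i.succ 0⟩⟩, by
            rintro ⟨i, hi⟩
            exact Fin.succ_ne_zero i (t.2.1 hi)⟩
        left_inv := fun p => rfl
        right_inv := fun t => Subtype.ext (Fin.cons_self_tail t.1) }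
    refine Fintype.sum_equiv e _ _ (fun p => ?_)
    have e' : Subgroup.centralizer (insert (p.1.2 : G) (Set.range p.1.1.1)) ≃* C (e p) :=
      MulEquiv.subgroupCongr (congrArg _ (Fin.range_cons _ _).symm)
    show (_ : ℚ) • cl _ = _
    rw [Nat.card_congr e'.toEquiv, cl_congr e']
  · rw [Finset.sum_filter, Fintype.sum_sigma]
    refine Finset.sum_congr rfl (fun s _ => ?_)
    rw [← Finset.sum_filter]
    have hF : ∀ x ∈ Finset.univ.filter (fun x : C s => (x : G) ∈ Set.range s.1),
        F ⟨s, x⟩ = (Nat.card (C s) : ℚ) • cl (C s) := by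
      intro x hx
      have hx' := (Finset.mem_filter.1 hx).2
      have e' : Subgroup.centralizer (insert (x : G) (Set.range s.1)) ≃* C s :=
        MulEquiv.subgroupCongr (by rw [Set.insert_eq_of_mem hx'])
      show (_ : ℚ) • cl _ = _
      rw [Nat.card_congr e'.toEquiv, cl_congr e']
    have hn : (Finset.univ.filter (fun x : C s => (x : G) ∈ Set.range s.1)).card = r := by
      have : Finset.univ.filter (fun x : C s => (x : G) ∈ Set.range s.1) =
          Finset.univ.image (fun i => (⟨s.1 i, by rintro _ ⟨j, rfl⟩; exact s.2.2 j i⟩ : C s)) := by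
        ext x
        simp only [Finset.mem_filter, Finset.mem_univ, true_and, Finset.mem_image, Set.mem_range]
        exact ⟨fun ⟨i, hi⟩ => ⟨i, Subtype.ext hi⟩, fun ⟨i, hi⟩ => ⟨i, congrArg Subtype.val hi⟩⟩
      rw [this, Finset.card_image_of_injective _ (fun i j h => s.2.1 (congrArg Subtype.val h)),
        Finset.card_univ, Fintype.card_fin]
    rw [Finset.sum_congr rfl hF, Finset.sum_const, hn, ← Nat.cast_smul_eq_nsmul ℚ r]

theorem inertiaR_succ (r : ℕ) (v : K) :
    inertiaR (r + 1) v = inertia (inertiaR r v) - (r : ℚ) • inertiaR r v := by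
  rw [inertia_inertiaR, add_sub_cancel_right]

end Groth.Agent.InertiaK.Basic
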