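/-
Spectral decomposition of the inertia operator.
-/
import Groth.Agent.InertiaK.Basic
import Mathlib.Data.Nat.Factorial.BigOperators
import Mathlib.Data.Nat.Choose.Sum
import Mathlib.Algebra.BigOperators.Intervals

open scoped Classical
open W4c5stacksedinertia Groth.Agent.InertiaK.Basic

universe u

namespace Groth.Agent.InertiaK.Spectral

/-- integral eigenspaces -/
noncomputable abbrev E (k : ℕ) : Submodule ℚ K := Module.End.eigenspace inertia (k : ℚ)

/-- eigenspaces with eigenvalue at least `k` -/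
noncomputable abbrev Ege (k : ℕ) : Submodule ℚ K := ⨆ j : {j : ℕ // k ≤ j}, E j.1

theorem mem_E {k : ℕ} {v : K} : v ∈ E k ↔ inertia v = (k : ℚ) • v := Module.End.mem_eigenspace_iff

theorem inertiaR_apply_eigen {k : ℕ} {v : K} (hv : v ∈ E k) :
    ∀ r, inertiaR r v = (k.descFactorial r : ℚ) • v := by
  intro r
  induction r with
  | zero => simp [inertiaR_zero]
  | succ r ih =>
    rw [inertiaR_succ, ih, map_smul, mem_E.1 hv, smul_smul, smul_smul, ← sub_smul, Nat.descFactorial_succ]
    congr 1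
    rcases le_or_gt r k with h | h
    · push_cast [Nat.cast_sub h]; ring
    · rw [Nat.descFactorial_eq_zero_iff_lt.2 h]; simp

/-- span of the classes with properties -/
noncomputable abbrev Sp (P : Idx → Prop) : Submodule ℚ K := Finsupp.supported ℚ ℚ {i | P i}

theorem cl_mem_Sp {P : Idx → Prop} (G : Type u) [Group G] [Finite G] (h : P (Idx.of G)) : cl G ∈ Sp P :=
  Finsupp.single_mem_supported ℚ 1 h

theorem map_Sp_le {P : Idx → Prop} (f : K →ₗ[ℚ] K) (N : Submodule ℚ K)
    (h : ∀ i, P i → f (cl i.rep) ∈ N) : ∀ v ∈ Sp P, f v ∈ N := by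
  intro v hv
  rw [Sp, Finsupp.supported_eq_span_single] at hv
  refine (Submodule.span_le (p := N.comap f)).2 ?_ hv
  rintro _ ⟨i, hi, rfl⟩
  have := h i hi
  rwa [cl_rep] at this

theorem card_center_le (G : Type u) [Group G] [Finite G] : Nat.card (Subgroup.center G) ≤ Nat.card G :=
  Subgroup.card_le_card_group _

theorem inertia_cl_split (G : Type u) [Group G] [Finite G] :
    inertia (cl G) - (Nat.card (Subgroup.center G) : ℚ) • cl G ∈
      Sp (fun i => i.card < Nat.card G ∧ Nat.card (Subgroup.center G) < i.centerCard) := by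
  have : Fintype G := Fintype.ofFinite G
  rw [inertia_cl, ← Finset.sum_filter_add_sum_filter_not Finset.univ (fun x => x ∈ Subgroup.center G),
    smul_add]
  have h1 : ∀ x ∈ Finset.univ.filter (fun x => x ∈ Subgroup.center G),
      (Nat.card (Subgroup.centralizer ({x} : Set G)) : ℚ) • cl (Subgroup.centralizer ({x} : Set G)) =
        (Nat.card G : ℚ) • cl G := by
    intro x hx
    have hC : Subgroup.centralizer ({x} : Set G) = ⊤ := by
      rw [eq_top_iff]
      rintro y - z hz
      obtain rfl : z = x := hz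
      exact (Subgroup.mem_center_iff.1 (Finset.mem_filter.1 hx).2 y).symm
    have e : Subgroup.centralizer ({x} : Set G) ≃* G := (MulEquiv.subgroupCongr hC).trans Subgroup.topEquiv
    rw [Nat.card_congr e.toEquiv, cl_congr e]
  have hz : (Finset.univ.filter (fun x => x ∈ Subgroup.center G)).card = Nat.card (Subgroup.center G) := by
    rw [Nat.card_eq_fintype_card, ← Fintype.card_subtype]
  rw [Finset.sum_congr rfl h1, Finset.sum_const, hz, ← Nat.cast_smul_eq_nsmul ℚ (Nat.card (Subgroup.center G)),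
    smul_comm, smul_smul, smul_smul, mul_assoc, inv_mul_cancel₀ (Nat.cast_ne_zero.2 Nat.card_pos.ne'), mul_one,
    add_sub_cancel_left]
  refine Submodule.smul_mem _ _ (Submodule.sum_mem _ (fun x hx => Submodule.smul_mem _ _ (cl_mem_Sp _ ?_)))
  have hxc : x ∉ Subgroup.center G := (Finset.mem_filter.1 hx).2
  rw [card_of, centerCard_of]
  have hne : Subgroup.centralizer ({x} : Set G) ≠ ⊤ := fun h => hxc (Subgroup.mem_center_iff.2 fun y => by
    have hy : y ∈ Subgroup.centralizer ({x} : Set G) := h ▸ Subgroup.mem_top y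
    exact (hy x rfl).symm)
  constructor
  · refine lt_of_le_of_ne (Subgroup.card_le_card_group _) (fun h => hne ?_)
    exact Subgroup.eq_top_of_card_eq _ h
  · let f : Subgroup.center G → Subgroup.center (Subgroup.centralizer ({x} : Set G)) := fun z =>
      ⟨⟨z.1, fun w _ => Subgroup.mem_center_iff.1 z.2 w⟩, Subgroup.mem_center_iff.2 fun w =>
        Subtype.ext (Subgroup.mem_center_iff.1 z.2 w.1)⟩
    have hxC : x ∈ Subgroup.centralizer ({x} : Set G) := fun w hw => by
      obtain rfl : w = x := hw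
      rfl
    let x' : Subgroup.center (Subgroup.centralizer ({x} : Set G)) :=
      ⟨⟨x, hxC⟩, Subgroup.mem_center_iff.2 fun w => Subtype.ext (w.2 x rfl).symm⟩
    have := Fintype.ofFinite (Subgroup.center G)
    have := Fintype.ofFinite (Subgroup.center (Subgroup.centralizer ({x} : Set G)))
    rw [Nat.card_eq_fintype_card, Nat.card_eq_fintype_card]
    refine Fintype.card_lt_of_injective_of_notMem f ?_ (b := x') ?_
    · exact fun z z' h => Subtype.ext (congrArg (fun y => y.1.1) h :)
    · rintro ⟨z, hz'⟩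
      have hzx : (z : G) = x := congrArg (fun y => y.1.1) hz'
      exact hxc (hzx ▸ z.2)

theorem exists_preimage {z : ℕ} {w : K} (hw : w ∈ Ege (z + 1)) :
    ∃ w' ∈ Ege (z + 1), inertia w' - (z : ℚ) • w' = w := by
  refine Submodule.iSup_induction (motive := fun w => ∃ w' ∈ Ege (z + 1), inertia w' - (z : ℚ) • w' = w)
    _ hw (fun j x hx => ?_) ⟨0, Submodule.zero_mem _, by simp⟩ ?_
  · have hj : (z : ℚ) < (j.1 : ℚ) := Nat.cast_lt.2 j.2
    refine ⟨((j.1 : ℚ) - z)⁻¹ • x, Submodule.smul_mem _ _ (Submodule.mem_iSup_of_mem j hx), ?_⟩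
    rw [map_smul, mem_E.1 hx, smul_comm (z : ℚ), ← smul_sub, ← sub_smul, smul_smul,
      inv_mul_cancel₀ (by linarith), one_smul]
  · rintro a b ⟨a', ha, ha'⟩ ⟨b', hb, hb'⟩
    refine ⟨a' + b', Submodule.add_mem _ ha hb, ?_⟩
    rw [map_add, smul_add, ← ha', ← hb']
    abel

theorem Ege_mono {a b : ℕ} (h : a ≤ b) : Ege b ≤ Ege a :=
  iSup_le fun j => le_iSup (fun i : {i : ℕ // a ≤ i} => E i.1) ⟨j.1, h.trans j.2⟩

theorem cl_mem_Ege : ∀ (n : ℕ) (i : Idx), i.card ≤ n → cl i.rep ∈ Ege i.centerCard := by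
  intro n
  induction n using Nat.strong_induction_on with
  | _ n ih =>
    intro i hi
    set z := i.centerCard
    have hw : inertia (cl i.rep) - (z : ℚ) • cl i.rep ∈ Ege (z + 1) := by
      have h := inertia_cl_split i.rep
      refine (Finsupp.supported_eq_span_single ℚ _).trans_le (Submodule.span_le.2 ?_) h
      rintro _ ⟨j, ⟨hj1, hj2⟩, rfl⟩
      have := Ege_mono (show z + 1 ≤ j.centerCard from hj2) (ih j.card (lt_of_lt_of_le hj1 hi) j le_rfl)
      rwa [cl_rep] at this
    obtain ⟨w', hw', he⟩ := exists_preimage hw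
    have hu : cl i.rep - w' ∈ E z := by
      rw [mem_E, map_sub, smul_sub, sub_eq_sub_iff_sub_eq_sub]
      exact he.symm
    have h2 := Submodule.add_mem (Ege z) (Submodule.mem_iSup_of_mem ⟨z, le_rfl⟩ hu)
      (Ege_mono (Nat.le_succ z) hw')
    rwa [sub_add_cancel] at h2

theorem Ege_one : Ege 1 = ⊤ := by
  rw [eq_top_iff]
  intro v _
  rw [← Finsupp.sum_single v]
  refine Submodule.sum_mem _ (fun i _ => ?_)
  rw [show Finsupp.single i (v i) = v i • cl i.rep by rw [cl_rep, Finsupp.smul_single, smul_eq_mul, mul_one]]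
  exact Submodule.smul_mem _ _ (Ege_mono (Nat.one_le_iff_ne_zero.2 Nat.card_pos.ne') (cl_mem_Ege _ i le_rfl))

/-- coefficient of the eigenprojection -/
noncomputable def coeff (r k : ℕ) : ℚ := ((-1 : ℚ) ^ (r + k)) / (r.factorial : ℚ) * (r.choose k : ℚ)

theorem coeff_of_lt {r k : ℕ} (h : r < k) : coeff r k = 0 := by
  simp [coeff, Nat.choose_eq_zero_of_lt h]

theorem sum_coeff (j k N : ℕ) (hN : j < N) :
    ∑ r ∈ Finset.range N, coeff r k * (j.descFactorial r : ℚ) = if k = j then 1 else 0 := by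
  have hterm : ∀ r, coeff r k * (j.descFactorial r : ℚ) =
      (-1 : ℚ) ^ (r + k) * ((j.choose r * r.choose k : ℕ) : ℚ) := by
    intro r
    have : (r.factorial : ℚ) ≠ 0 := Nat.cast_ne_zero.2 r.factorial_ne_zero
    rw [coeff, Nat.descFactorial_eq_factorial_mul_choose]
    push_cast
    field_simp
  simp only [hterm]
  rw [← Finset.sum_subset (Finset.range_mono (show j + 1 ≤ N from hN)) (fun r _ hr => by
    rw [Finset.mem_range] at hr
    simp [Nat.choose_eq_zero_of_lt (show j < r by omega)])]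
  rcases lt_or_ge j k with hjk | hkj
  · rw [if_neg (by omega), Finset.sum_eq_zero]
    intro r hr
    rw [Finset.mem_range] at hr
    simp [Nat.choose_eq_zero_of_lt (show r < k by omega)]
  · rw [← Finset.sum_range_add_sum_Ico _ (show k ≤ j + 1 by omega), Finset.sum_Ico_eq_sum_range,
      Finset.sum_eq_zero (fun r hr => by
        rw [Finset.mem_range] at hr
        simp [Nat.choose_eq_zero_of_lt hr]), zero_add]
    have e : ∀ i ∈ Finset.range (j + 1 - k), (-1 : ℚ) ^ (k + i + k) * ((j.choose (k + i) * (k + i).choose k : ℕ) : ℚ) =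
        (j.choose k : ℚ) * (((-1 : ℤ) ^ i * ((j - k).choose i : ℤ) : ℤ) : ℚ) := by
      intro i _
      have : ((-1 : ℚ) ^ (k + i + k)) = (-1) ^ i := by
        rw [show k + i + k = i + 2 * k by omega, pow_add, pow_mul]; simp
      rw [this, Nat.choose_mul (Nat.le_add_right k i), Nat.add_sub_cancel_left]
      push_cast
      ring
    rw [Finset.sum_congr rfl e, ← Finset.mul_sum, ← Int.cast_sum, show j + 1 - k = (j - k) + 1 by omega,
      Int.alternating_sum_range_choose]
    by_cases h : k = j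
    · subst h; simp
    · simp [h, show ¬ j - k = 0 by omega]

/-- the eigenprojection formula, with a uniform bound -/
theorem exists_bound (v : K) : ∃ N₀, ∀ N, N₀ ≤ N →
    (∀ r, N ≤ r → inertiaR r v = 0) ∧
    (∀ k, ∑ r ∈ Finset.range N, coeff r k • inertiaR r v ∈ E k) ∧
    ∑ k ∈ Finset.range N, ∑ r ∈ Finset.range N, coeff r k • inertiaR r v = v := by
  have hv : v ∈ Ege 1 := by rw [Ege_one]; trivial
  refine Submodule.iSup_induction (motive := fun v => ∃ N₀, ∀ N, N₀ ≤ N →
    (∀ r, N ≤ r → inertiaR r v = 0) ∧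
    (∀ k, ∑ r ∈ Finset.range N, coeff r k • inertiaR r v ∈ E k) ∧
    ∑ k ∈ Finset.range N, ∑ r ∈ Finset.range N, coeff r k • inertiaR r v = v) _ hv
    (fun j x hx => ⟨j.1 + 1, fun N hN => ?_⟩) ⟨0, fun N _ => by simp⟩ ?_
  · have h1 : ∀ k, ∑ r ∈ Finset.range N, coeff r k • inertiaR r x =
        (if k = j.1 then (1 : ℚ) else 0) • x := by
      intro k
      rw [← sum_coeff j.1 k N (by omega), Finset.sum_smul]
      exact Finset.sum_congr rfl (fun r _ => by rw [inertiaR_apply_eigen hx, smul_smul])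
    refine ⟨fun r hr => ?_, fun k => ?_, ?_⟩
    · rw [inertiaR_apply_eigen hx, Nat.descFactorial_eq_zero_iff_lt.2 (by omega)]
      simp
    · rw [h1]
      split_ifs with h
      · rw [h, one_smul]; exact hx
      · simp
    · simp only [h1, ite_smul, one_smul, zero_smul]
      rw [Finset.sum_ite_eq', if_pos (Finset.mem_range.2 (by omega))]
  · rintro a b ⟨A, hA⟩ ⟨B, hB⟩
    refine ⟨max A B, fun N hN => ?_⟩
    obtain ⟨a1, a2, a3⟩ := hA N (le_trans (le_max_left _ _) hN)
    obtain ⟨b1, b2, b3⟩ := hB N (le_trans (le_max_right _ _) hN)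
    simp only [map_add, smul_add, Finset.sum_add_distrib]
    exact ⟨fun r hr => by simp [a1 r hr, b1 r hr], fun k => Submodule.add_mem _ (a2 k) (b2 k),
      by rw [a3, b3]⟩

theorem finsum_proj {v : K} {N : ℕ} (h : ∀ r, N ≤ r → inertiaR r v = 0) (k : ℕ) :
    ∑ᶠ r : ℕ, coeff r k • inertiaR r v = ∑ r ∈ Finset.range N, coeff r k • inertiaR r v := by
  refine finsum_eq_sum_of_support_subset _ (fun r hr => ?_)
  simp only [Function.mem_support] at hr
  simp only [Finset.coe_range, Set.mem_Iio]
  by_contra hc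
  exact hr (by rw [h r (not_lt.1 hc), smul_zero])

end Groth.Agent.InertiaK.Spectral
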